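import Mathlib
import Cfsg.Agent.H178.RG.Defs
import Cfsg.Agent.H193.SsConj
import Cfsg.Agent.H139.Cusp.Formula

/-!
# S5714, C2: multiplicities of the irreducible factors of the characteristic polynomial (helper332)
-/

set_option autoImplicit false

namespace Cfsg.Agent.H332.RG

open Polynomial Cfsg.Agent.H178.RG
open Cfsg.Agent.H193.SsConj

section lin

variable {F : Type*} [Field F] {V : Type*} [AddCommGroup V] [Module F V] [FiniteDimensional F V]

theorem finrank_ker_mul_le (f g : Module.End F V) :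
    Module.finrank F (LinearMap.ker (f * g)) ≤ Module.finrank F (LinearMap.ker f) + Module.finrank F (LinearMap.ker g) := by
  -- `g` maps `ker (f g)` into `ker f`
  let r : LinearMap.ker (f * g) →ₗ[F] LinearMap.ker f :=
    (g.comp (LinearMap.ker (f * g)).subtype).codRestrict (LinearMap.ker f) fun v => by
      rw [LinearMap.mem_ker]
      exact v.2
  have h1 := LinearMap.finrank_range_add_finrank_ker r
  have h2 : Module.finrank F (LinearMap.range r) ≤ Module.finrank F (LinearMap.ker f) := Submodule.finrank_le _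
  have h3 : Module.finrank F (LinearMap.ker r) ≤ Module.finrank F (LinearMap.ker g) := by
    let s : LinearMap.ker r →ₗ[F] LinearMap.ker g :=
      ((LinearMap.ker (f * g)).subtype.comp (LinearMap.ker r).subtype).codRestrict (LinearMap.ker g) fun v => by
        rw [LinearMap.mem_ker]
        have h := v.2
        rw [LinearMap.mem_ker] at h
        exact congrArg Subtype.val h
    refine LinearMap.finrank_le_finrank_of_injective (f := s) ?_
    intro v w h
    apply Subtype.ext
    apply Subtype.ext
    exact congrArg (fun z : LinearMap.ker g => (z : V)) h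
  omega

theorem finrank_ker_pow_le (f : Module.End F V) (a : ℕ) :
    Module.finrank F (LinearMap.ker (f ^ a)) ≤ a * Module.finrank F (LinearMap.ker f) := by
  induction a with
  | zero =>
    rw [pow_zero, zero_mul]
    have : LinearMap.ker (1 : Module.End F V) = ⊥ := LinearMap.ker_id
    rw [this, finrank_bot]
  | succ a ih =>
    rw [pow_succ, add_mul, one_mul]
    exact (finrank_ker_mul_le _ _).trans (Nat.add_le_add_right ih _)

omit [FiniteDimensional F V] in
open Classical in
/-- the vector `v` killed by `φ ^ (a + 1)` and not by `φ ^ a` -/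
theorem ann_of {L : Module.End F V} {φ : F[X]} (hφ : Irreducible φ) {a : ℕ} {v : V} (h1 : aeval L (φ ^ (a + 1)) v = 0)
    (h2 : aeval L (φ ^ a) v ≠ 0) (g : F[X]) : aeval L g v = 0 ↔ φ ^ (a + 1) ∣ g := by
  constructor
  · intro hg
    obtain ⟨c, d, hcd⟩ : ∃ c d : F[X], c * g + d * φ ^ (a + 1) = EuclideanDomain.gcd g (φ ^ (a + 1)) := by
      refine ⟨EuclideanDomain.gcdA g (φ ^ (a + 1)), EuclideanDomain.gcdB g (φ ^ (a + 1)), ?_⟩
      rw [EuclideanDomain.gcd_eq_gcd_ab]; ring
    have h3 : aeval L (EuclideanDomain.gcd g (φ ^ (a + 1))) v = 0 := by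
      rw [← hcd, map_add, map_mul, map_mul, LinearMap.add_apply, Module.End.mul_apply, Module.End.mul_apply, hg, h1,
        map_zero, map_zero, add_zero]
    obtain ⟨j, hj, hd⟩ := (dvd_prime_pow hφ.prime _).1 (EuclideanDomain.gcd_dvd_right g (φ ^ (a + 1)))
    have h4 : φ ^ j ∣ EuclideanDomain.gcd g (φ ^ (a + 1)) := hd.symm.dvd
    rcases Nat.lt_or_ge a j with h5 | h5
    · have : j = a + 1 := by omega
      subst this
      exact h4.trans (EuclideanDomain.gcd_dvd_left g _)
    · exfalso
      apply h2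
      obtain ⟨e, he⟩ := hd.dvd.trans (pow_dvd_pow φ h5)
      rw [he, mul_comm, map_mul, Module.End.mul_apply, h3, map_zero]
  · rintro ⟨e, rfl⟩
    rw [mul_comm, map_mul, Module.End.mul_apply, h1, map_zero]

omit [FiniteDimensional F V] in
/-- if no vector has annihilator `φ ^ (a + 1)`, the `φ`-primary part is killed by `φ ^ a` -/
theorem ker_le {L : Module.End F V} {φ : F[X]} (hφ : Irreducible φ) {a : ℕ}
    (h : ¬ ∃ v : V, ∀ g : F[X], aeval L g v = 0 ↔ φ ^ (a + 1) ∣ g) (c : ℕ) :
    LinearMap.ker (aeval L (φ ^ c)) ≤ LinearMap.ker (aeval L (φ ^ a)) := by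
  classical
  intro u hu
  rw [LinearMap.mem_ker] at hu ⊢
  have hex : ∃ i, aeval L (φ ^ i) u = 0 := ⟨c, hu⟩
  have h1 := Nat.find_spec hex
  have h2 := fun {m} (hm : m < Nat.find hex) => Nat.find_min hex hm
  set i := Nat.find hex with hi
  rcases Nat.lt_or_ge a i with h3 | h3
  · exfalso
    apply h
    refine ⟨aeval L (φ ^ (i - (a + 1))) u, ann_of hφ ?_ ?_⟩
    · rw [← Module.End.mul_apply, ← map_mul, ← pow_add]
      have : a + 1 + (i - (a + 1)) = i := by omega
      rw [this, h1]
    · rw [← Module.End.mul_apply, ← map_mul, ← pow_add]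
      exact h2 (by omega)
  · have : a = (a - i) + i := by omega
    rw [this, pow_add, map_mul, Module.End.mul_apply, h1, map_zero]

/-- the dimension of the `φ`-primary part is at least the multiplicity of `φ` in the characteristic polynomial -/
theorem le_finrank_ker (L : Module.End F V) {φ g : F[X]} (hφ : Irreducible φ) {c : ℕ} (hc : L.charpoly = φ ^ c * g)
    (hg : ¬ φ ∣ g) : c * φ.natDegree ≤ Module.finrank F (LinearMap.ker (aeval L (φ ^ c))) := by
  have hcop : IsCoprime (φ ^ c) g := (hφ.coprime_iff_not_dvd.2 hg).pow_left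
  have hsup := Polynomial.sup_ker_aeval_eq_ker_aeval_mul_of_coprime L hcop
  have hdis := Polynomial.disjoint_ker_aeval_of_isCoprime L hcop
  rw [← hc, LinearMap.aeval_self_charpoly, LinearMap.ker_zero] at hsup
  have hcompl : IsCompl (LinearMap.ker (aeval L (φ ^ c))) (LinearMap.ker (aeval L g)) :=
    ⟨hdis, codisjoint_iff.2 hsup⟩
  have h1 := charpoly_eq_mul L hcompl (ker_inv L _) (ker_inv L _)
  have h2 : aeval (L.restrict (ker_inv L g)) g = 0 := by
    apply LinearMap.ext
    intro v
    apply Subtype.ext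
    rw [aeval_restrict]
    exact v.2
  have h3 : ¬ φ ∣ (L.restrict (ker_inv L g)).charpoly := fun h => hg (dvd_of_dvd_charpoly _ hφ h h2)
  have h4 : IsCoprime (φ ^ c) (L.restrict (ker_inv L g)).charpoly := (hφ.coprime_iff_not_dvd.2 h3).pow_left
  have h5 : φ ^ c ∣ (L.restrict (ker_inv L (φ ^ c))).charpoly := by
    refine h4.dvd_of_dvd_mul_right ?_
    rw [← h1, hc]
    exact dvd_mul_right _ _
  have h6 := natDegree_le_of_dvd h5 (LinearMap.charpoly_monic _).ne_zero
  rwa [natDegree_pow, LinearMap.charpoly_natDegree] at h6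

end lin

section C2

variable {F ι : Type} [Field F] [Fintype F] [Fintype ι] [DecidableEq ι]

omit [Fintype F] in
theorem aeval_toLin (x : Matrix ι ι F) (g : F[X]) (v : ι → F) :
    aeval (Matrix.toLin' x) g v = (aeval x g).mulVec v := by
  have h : aeval (Matrix.toLin' x) g = Matrix.toLin' (aeval x g) :=
    Polynomial.aeval_algHom_apply (Matrix.toLinAlgEquiv' (R := F) (n := ι)).toAlgHom x g
  rw [h, Matrix.toLin'_apply]

open Classical in
/-- **C2** -/
theorem count_facs {x : Matrix ι ι F} {φ : F[X]} (hφ : Irreducible φ) (hm : φ.Monic) {a b : ℕ}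
    (h : a * b < (facs x).count φ) :
    (∃ v, Ann x v (φ ^ (a + 1))) ∨ (Fintype.card F ^ φ.natDegree) ^ (b + 1) ≤ Nat.card (kerP x φ) := by
  by_contra hcon
  push Not at hcon
  obtain ⟨hA, hB⟩ := hcon
  set L : Module.End F (ι → F) := Matrix.toLin' x with hL
  have hchar : L.charpoly = x.charpoly := by
    rw [hL]
    exact Matrix.charpoly_toLin' x
  set c := (facs x).count φ with hc
  -- the multiplicity
  have hem : emultiplicity φ x.charpoly = c := by
    have h1 := UniqueFactorizationMonoid.emultiplicity_eq_count_normalizedFactors hφ x.charpoly_monic.ne_zero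
    rw [hm.normalize_eq_self] at h1
    exact h1
  obtain ⟨⟨g, hg⟩, hnd⟩ := emultiplicity_eq_coe.1 hem
  have hg' : ¬ φ ∣ g := by
    rintro ⟨e, rfl⟩
    apply hnd
    rw [hg]
    exact ⟨e, by ring⟩
  have h1 := le_finrank_ker L hφ (c := c) (g := g) (hchar.trans hg) hg'
  have hA' : ¬ ∃ v : ι → F, ∀ g : F[X], aeval L g v = 0 ↔ φ ^ (a + 1) ∣ g := by
    rintro ⟨v, hv⟩
    refine hA v fun g => ?_
    rw [← hv g, aeval_toLin]
  have h2 := Submodule.finrank_mono (ker_le hφ hA' c)
  have h3 := finrank_ker_pow_le (aeval L φ) a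
  rw [← map_pow] at h3
  obtain ⟨k, hk⟩ := Cfsg.Agent.H139.Cusp.natDegree_dvd_finrank_ker hφ L
  have hker : Nat.card (kerP x φ) = (Fintype.card F ^ φ.natDegree) ^ k := by
    have e : Nat.card (kerP x φ) = Nat.card (LinearMap.ker (aeval L φ)) := by
      refine Nat.card_congr (Equiv.subtypeEquivRight fun v => ?_)
      rw [LinearMap.mem_ker, aeval_toLin]
      exact Iff.rfl
    rw [e, Module.natCard_eq_pow_finrank (K := F), hk, pow_mul, Nat.card_eq_fintype_card]
  have hd : 0 < φ.natDegree := hφ.natDegree_pos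
  have h4 : c * φ.natDegree ≤ a * (φ.natDegree * k) := by
    calc c * φ.natDegree ≤ _ := h1
      _ ≤ _ := h2
      _ ≤ _ := h3
      _ = _ := by rw [hk]
  have h5 : c ≤ a * k := by
    have : c * φ.natDegree ≤ (a * k) * φ.natDegree := by
      calc c * φ.natDegree ≤ _ := h4
        _ = _ := by ring
    exact Nat.le_of_mul_le_mul_right this hd
  have h6 : b < k := by
    by_contra hcon
    have h7 : a * k ≤ a * b := Nat.mul_le_mul_left a (by omega)
    omega
  rw [hker] at hB
  have h8 : (Fintype.card F ^ φ.natDegree) ^ (b + 1) ≤ (Fintype.card F ^ φ.natDegree) ^ k :=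
    Nat.pow_le_pow_right (Nat.pow_pos Fintype.card_pos) h6
  omega

end C2

end Cfsg.Agent.H332.RG
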